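import Mathlib
import Groth.Prelude.Def_W4c3ghconstell
import Groth.Agent.Lib.Helper4.ComodCoeff
import Groth.Agent.Lib.Helper9.Comod4

/-!
Isotypic components of equivariant modules: subcomodule properties.
-/

set_option autoImplicit false

namespace Groth.Agent.Helper2.Constell

open TensorProduct HopfRep W4c3ghconstell

universe u v w x

section Iso

variable {k : Type u} [Field k] {A : Type v} [AddCommGroup A] [Module k A] [Coalgebra k A]
variable {M : Type x} [AddCommGroup M] [Module k M] [HopfRep.Comod k A M]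

lemma mem_isoComp_iff (D : Submodule k A) (v : M) :
    v ∈ isoComp M D ↔ ∀ f : M →ₗ[k] k, Groth.Agent.Helper4.Comod.coeff (C := A) f v ∈ D := by
  rw [isoComp, Submodule.mem_comap, Groth.Agent.Helper4.Comod.mem_range_lTensor_subtype_iff]
  rfl

lemma isSubcomod_isoComp (D : Submodule k A) (hD : IsSubcoalg k A D) :
    IsSubcomod (k := k) (A := A) (isoComp M D) := by
  rw [Groth.Agent.Helper4.Comod.isSubcomod_iff]
  intro l v hv
  rw [mem_isoComp_iff] at hv ⊢
  intro f
  have h1 := (Groth.Agent.Helper4.Comod.isComodHom_iff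
    (Groth.Agent.Helper4.Comod.coeff (C := A) f)).mp
    (Groth.Agent.Helper4.Comod.isComodHom_coeff f) l v
  rw [h1]
  have hD' : Groth.Agent.Helper4.Comod.IsSubcoalg D := hD
  exact (Groth.Agent.Helper4.Comod.isSubcomod_iff D).mp hD'.isSubcomod l _ (hv f)

/-- every nonzero finite-dimensional subcomodule contains a simple one -/
lemma exists_simple_le (W : Submodule k M) (hW : IsSubcomod (k := k) (A := A) W)
    [Module.Finite k W] (hne : W ≠ ⊥) :
    ∃ S : Submodule k M, IsSubcomod (k := k) (A := A) S ∧ S ≠ ⊥ ∧ S ≤ W ∧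
      ∀ w : Submodule k M, IsSubcomod (k := k) (A := A) w → w ≤ S → w = ⊥ ∨ w = S := by
  classical
  let P : ℕ → Prop := fun n => ∃ S : Submodule k M, IsSubcomod (k := k) (A := A) S ∧
    S ≤ W ∧ S ≠ ⊥ ∧ Module.finrank k S = n
  have hP : ∃ n, P n := ⟨_, W, hW, le_rfl, hne, rfl⟩
  obtain ⟨S, hS, hSW, hSne, hSn⟩ := Nat.find_spec hP
  refine ⟨S, hS, hSne, hSW, ?_⟩
  intro w hw hwS
  by_cases hw0 : w = ⊥
  · exact Or.inl hw0
  · right
    have hfinS : Module.Finite k S := Module.Finite.of_injective (Submodule.inclusion hSW)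
      (Submodule.inclusion_injective hSW)
    have hmin : Nat.find hP ≤ Module.finrank k w :=
      Nat.find_min' hP ⟨w, hw, hwS.trans hSW, hw0, rfl⟩
    rw [← hSn] at hmin
    exact Submodule.eq_of_le_of_finrank_le hwS hmin

attribute [local instance] Groth.Agent.Helper4.Comod.dualModule

/-- a nonzero subcomodule meets some isotypic component -/
theorem exists_inf_isoComp_ne_bot (N : Submodule k M) (hN : IsSubcomod (k := k) (A := A) N)
    (hne : N ≠ ⊥) : ∃ D : SimpSub k A, N ⊓ isoComp M D.1 ≠ ⊥ := by
  obtain ⟨n, hnN, hn0⟩ := Submodule.exists_mem_ne_zero_of_ne_bot hne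
  obtain ⟨W, hWfin, hnW, hW⟩ := Groth.Agent.Helper9.exists_finite_subcomod_mem (k := k) (C := A) n
  have hWN : IsSubcomod (k := k) (A := A) (W ⊓ N) := Groth.Agent.Helper9.isSubcomod_inf W N hW hN
  haveI : Module.Finite k ↥(W ⊓ N) := Submodule.finiteDimensional_of_le inf_le_left
  have hWNne : W ⊓ N ≠ ⊥ := by
    intro h
    apply hn0
    have : n ∈ W ⊓ N := ⟨hnW, hnN⟩
    rw [h] at this
    exact (Submodule.mem_bot k).mp this
  obtain ⟨S, hS, hSne, hSW, hSmin⟩ := exists_simple_le (W ⊓ N) hWN hWNne
  letI cS : HopfRep.Comod k A S := Groth.Agent.Helper9.subComod S hS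
  have hsub := Groth.Agent.Helper9.isComodHom_subtype S hS
  haveI hnt : Nontrivial S := (Submodule.nontrivial_iff_ne_bot).mpr hSne
  have hsimple : IsSimpleComod k A S := by
    refine ⟨hnt, fun U hU => ?_⟩
    have hUm : IsSubcomod (k := k) (A := A) (U.map S.subtype) :=
      Groth.Agent.Helper9.isSubcomod_map S.subtype hsub U hU
    have hle : U.map S.subtype ≤ S := by
      rintro _ ⟨u, _, rfl⟩
      exact u.2
    rcases hSmin _ hUm hle with h | h
    · left
      apply Submodule.map_injective_of_injective S.injective_subtype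
      rw [h, Submodule.map_bot]
    · right
      apply Submodule.map_injective_of_injective S.injective_subtype
      rw [h, Submodule.map_subtype_top]
  haveI : IsSimpleModule (Groth.Agent.Helper4.Comod.Dual k A) S :=
    Groth.Agent.Helper4.Comod.isSimpleComod_iff.mp hsimple
  let D : Submodule k A := Groth.Agent.Helper4.Comod.cf k A S
  have hD : IsSimpleSubcoalg k A D := by
    refine ⟨Groth.Agent.Helper4.Comod.cf_ne_bot, Groth.Agent.Helper4.Comod.isSubcoalg_cf, ?_⟩
    intro B hBD hB
    by_cases hB0 : B = ⊥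
    · exact Or.inl hB0
    · exact Or.inr (Groth.Agent.Helper4.Comod.eq_cf_of_isSubcoalg_of_le B hB hBD hB0)
  refine ⟨⟨D, hD⟩, ?_⟩
  have hSD : S ≤ isoComp M D := by
    intro s hs
    rw [isoComp, Submodule.mem_comap]
    have h1 := LinearMap.congr_fun hsub ⟨s, hs⟩
    simp only [LinearMap.comp_apply] at h1
    change HopfRep.Comod.coact (k := k) (A := A) s = _ at h1
    rw [h1]
    obtain ⟨z, hz⟩ := Groth.Agent.Helper4.Comod.coact_mem_cf (k := k) (C := A) (V := S) ⟨s, hs⟩
    rw [← hz, ← LinearMap.comp_apply, LinearMap.rTensor_comp_lTensor,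
      ← LinearMap.lTensor_comp_rTensor, LinearMap.comp_apply]
    exact ⟨_, rfl⟩
  intro h
  apply hSne
  rw [eq_bot_iff, ← h]
  exact le_inf (hSW.trans inf_le_right) hSD

end Iso

section HopfMod

variable {k : Type u} [Field k] {A : Type v} [CommRing A] [Bialgebra k A]
variable {R : Type w} [CommRing R] [Algebra k R] [HopfRep.Comod k A R]
variable {M : Type x} [AddCommGroup M] [Module k M] [Module R M] [IsScalarTower k R M]
  [HopfRep.Comod k A M] [TameAct.IsHopfMod k A R M]

omit [HopfRep.Comod k A R] [HopfRep.Comod k A M] [TameAct.IsHopfMod k A R M] in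
lemma hmSMul_mem (N : Submodule R M) (z : R ⊗[k] A) (y : M ⊗[k] A)
    (hy : y ∈ LinearMap.range ((N.restrictScalars k).subtype.rTensor A)) :
    TameAct.hmSMul k A R M z y ∈ LinearMap.range ((N.restrictScalars k).subtype.rTensor A) := by
  obtain ⟨y', rfl⟩ := hy
  induction z using TensorProduct.induction_on with
  | zero => simp
  | tmul r a =>
    induction y' using TensorProduct.induction_on with
    | zero => simp
    | tmul n a' =>
      refine ⟨(⟨r • (n : M), N.smul_mem r n.2⟩ : N.restrictScalars k) ⊗ₜ[k] (a * a'), ?_⟩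
      simp
    | add p q hp hq =>
      simp only [map_add]
      exact Submodule.add_mem _ hp hq
  | add p q hp hq =>
    simp only [map_add, LinearMap.add_apply]
    exact Submodule.add_mem _ hp hq

lemma isSubcomod_span (S : Set M)
    (h : ∀ s ∈ S, HopfRep.Comod.coact (k := k) (A := A) s ∈
      LinearMap.range (((Submodule.span R S).restrictScalars k).subtype.rTensor A)) :
    IsSubcomod (k := k) (A := A) ((Submodule.span R S).restrictScalars k) := by
  intro x hx
  have hx' : x ∈ Submodule.span R S := hx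
  refine Submodule.span_induction
    (p := fun x _ => HopfRep.Comod.coact (k := k) (A := A) x ∈
      LinearMap.range (((Submodule.span R S).restrictScalars k).subtype.rTensor A))
    ?_ ?_ ?_ ?_ hx'
  · intro s hs
    exact h s hs
  · simp
  · intro a b _ _ ha hb
    rw [map_add]
    exact Submodule.add_mem _ ha hb
  · intro r a _ ha
    rw [TameAct.IsHopfMod.coact_smul]
    exact hmSMul_mem _ _ _ ha

omit [HopfRep.Comod k A R] [TameAct.IsHopfMod k A R M] in
lemma genIn_le (S : Set (SimpSub k A)) (N : Submodule R M) : genIn k A R M S N ≤ N := by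
  apply Submodule.span_le.mpr
  intro x hx
  simp only [Set.mem_iUnion] at hx
  obtain ⟨D, _, hx⟩ := hx
  exact hx.1

omit [HopfRep.Comod k A R] [TameAct.IsHopfMod k A R M] in
lemma inf_isoComp_le_genIn (S : Set (SimpSub k A)) (N : Submodule R M) (D : SimpSub k A)
    (hD : D ∈ S) :
    N.restrictScalars k ⊓ isoComp M D.1 ≤ (genIn k A R M S N).restrictScalars k := by
  intro x hx
  apply Submodule.subset_span
  simp only [Set.mem_iUnion]
  exact ⟨D, hD, hx⟩

omit [HopfRep.Comod k A R] [TameAct.IsHopfMod k A R M] in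
lemma genIn_inf_isoComp (S : Set (SimpSub k A)) (N : Submodule R M) (D : SimpSub k A)
    (hD : D ∈ S) :
    (genIn k A R M S N).restrictScalars k ⊓ isoComp M D.1 =
      N.restrictScalars k ⊓ isoComp M D.1 := by
  apply le_antisymm
  · exact inf_le_inf_right _ (fun x hx => genIn_le S N hx)
  · exact le_inf (inf_isoComp_le_genIn S N D hD) inf_le_right

omit [HopfRep.Comod k A R] [TameAct.IsHopfMod k A R M] in
lemma genIn_genIn (S : Set (SimpSub k A)) (N : Submodule R M) :
    genIn k A R M S (genIn k A R M S N) = genIn k A R M S N := by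
  apply le_antisymm (genIn_le _ _)
  apply Submodule.span_le.mpr
  intro x hx
  simp only [Set.mem_iUnion] at hx
  obtain ⟨D, hD, hx⟩ := hx
  apply Submodule.subset_span
  simp only [Set.mem_iUnion]
  refine ⟨D, hD, ?_⟩
  rw [SetLike.mem_coe, genIn_inf_isoComp S N D hD]
  exact hx

lemma isSubcomod_genIn (S : Set (SimpSub k A)) (N : Submodule R M)
    (hN : IsSubcomod (k := k) (A := A) (N.restrictScalars k)) :
    IsSubcomod (k := k) (A := A) ((genIn k A R M S N).restrictScalars k) := by
  apply isSubcomod_span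
  intro s hs
  simp only [Set.mem_iUnion] at hs
  obtain ⟨D, hD, hs⟩ := hs
  have h1 : IsSubcomod (k := k) (A := A) (N.restrictScalars k ⊓ isoComp M D.1) :=
    Groth.Agent.Helper9.isSubcomod_inf _ _ hN (isSubcomod_isoComp D.1 D.2.2.1)
  exact Groth.Agent.Helper9.range_rTensor_subtype_mono (inf_isoComp_le_genIn S N D hD) (h1 s hs)

end HopfMod

end Groth.Agent.Helper2.Constell
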