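import Mathlib
import Groth.Agent.Lib.Helper2.Constell.Basic

/-!
Weight estimates for constellations.
-/

set_option autoImplicit false

namespace Groth.Agent.Helper2.Constell

open TensorProduct HopfRep W4c3ghconstell

universe u v w x

section Num

variable {ι : Type*} (θ : ι → ℚ) (h a a' : ι → ℕ)

lemma summable_of_le (hs : Summable (fun D => (θ D : ℝ) * (h D : ℝ))) (hah : ∀ D, a D ≤ h D) :
    Summable (fun D => (θ D : ℝ) * (a D : ℝ)) := by
  apply Summable.of_norm_bounded (g := fun D => |(θ D : ℝ) * (h D : ℝ)|) hs.abs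
  intro D
  rw [Real.norm_eq_abs, abs_mul, abs_mul]
  apply mul_le_mul_of_nonneg_left _ (abs_nonneg _)
  rw [abs_of_nonneg (Nat.cast_nonneg _), abs_of_nonneg (Nat.cast_nonneg _)]
  exact_mod_cast hah D

lemma term_le (D : ι) (h1 : θ D < 0 → a' D = a D) (h2 : a' D ≤ a D) :
    (θ D : ℝ) * (a' D : ℝ) ≤ (θ D : ℝ) * (a D : ℝ) := by
  by_cases hθ : θ D < 0
  · rw [h1 hθ]
  · have h0 : (0 : ℝ) ≤ (θ D : ℝ) := by exact_mod_cast not_lt.mp hθ
    apply mul_le_mul_of_nonneg_left _ h0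
    exact_mod_cast h2

lemma tsum_le_of (hs : Summable (fun D => (θ D : ℝ) * (h D : ℝ))) (hah : ∀ D, a D ≤ h D)
    (h1 : ∀ D, θ D < 0 → a' D = a D) (h2 : ∀ D, a' D ≤ a D) :
    ∑' D, (θ D : ℝ) * (a' D : ℝ) ≤ ∑' D, (θ D : ℝ) * (a D : ℝ) :=
  Summable.tsum_le_tsum (fun D => term_le θ a a' D (h1 D) (h2 D))
    (summable_of_le θ h a' hs fun D => (h2 D).trans (hah D)) (summable_of_le θ h a hs hah)

lemma term_eq_of_tsum_ge (hs : Summable (fun D => (θ D : ℝ) * (h D : ℝ))) (hah : ∀ D, a D ≤ h D)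
    (h1 : ∀ D, θ D < 0 → a' D = a D) (h2 : ∀ D, a' D ≤ a D)
    (hge : ∑' D, (θ D : ℝ) * (a D : ℝ) ≤ ∑' D, (θ D : ℝ) * (a' D : ℝ)) (D : ι) :
    (θ D : ℝ) * (a' D : ℝ) = (θ D : ℝ) * (a D : ℝ) := by
  have hsa := summable_of_le θ h a hs hah
  have hsa' := summable_of_le θ h a' hs fun D => (h2 D).trans (hah D)
  have hnn : ∀ D, 0 ≤ (θ D : ℝ) * (a D : ℝ) - (θ D : ℝ) * (a' D : ℝ) := fun D =>
    sub_nonneg.mpr (term_le θ a a' D (h1 D) (h2 D))
  have hsum : HasSum (fun D => (θ D : ℝ) * (a D : ℝ) - (θ D : ℝ) * (a' D : ℝ))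
      (∑' D, (θ D : ℝ) * (a D : ℝ) - ∑' D, (θ D : ℝ) * (a' D : ℝ)) := hsa.hasSum.sub hsa'.hasSum
  have hle := tsum_le_of θ h a a' hs hah h1 h2
  have h0 : ∑' D, (θ D : ℝ) * (a D : ℝ) - ∑' D, (θ D : ℝ) * (a' D : ℝ) = 0 := by linarith
  rw [h0, hasSum_zero_iff_of_nonneg hnn] at hsum
  have := congrFun hsum D
  simp only [Pi.zero_apply] at this
  linarith

lemma tsum_pos_of (hs : Summable (fun D => (θ D : ℝ) * (h D : ℝ))) (hah : ∀ D, a D ≤ h D)
    (hneg : ∀ D, θ D < 0 → a D = 0) (D₁ : ι) (hD₁ : 0 < θ D₁) (haD₁ : a D₁ ≠ 0) :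
    0 < ∑' D, (θ D : ℝ) * (a D : ℝ) := by
  refine Summable.tsum_pos (summable_of_le θ h a hs hah) ?_ D₁ ?_
  · intro D
    by_cases hθ : θ D < 0
    · rw [hneg D hθ]
      simp
    · have h0 : (0 : ℝ) ≤ (θ D : ℝ) := by exact_mod_cast not_lt.mp hθ
      exact mul_nonneg h0 (Nat.cast_nonneg _)
  · have h0 : (0 : ℝ) < (θ D₁ : ℝ) := by exact_mod_cast hD₁
    have h1 : (0 : ℝ) < (a D₁ : ℝ) := by exact_mod_cast Nat.pos_of_ne_zero haD₁
    exact mul_pos h0 h1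

lemma tsum_nonneg_of (hneg : ∀ D, θ D < 0 → a D = 0) :
    0 ≤ ∑' D, (θ D : ℝ) * (a D : ℝ) := by
  apply tsum_nonneg
  intro D
  by_cases hθ : θ D < 0
  · rw [hneg D hθ]
    simp
  · have h0 : (0 : ℝ) ≤ (θ D : ℝ) := by exact_mod_cast not_lt.mp hθ
    exact mul_nonneg h0 (Nat.cast_nonneg _)

end Num

section Hilb

variable {k : Type u} [Field k] {A : Type v} [AddCommGroup A] [Module k A] [Coalgebra k A]
variable {M : Type x} [AddCommGroup M] [Module k M] [HopfRep.Comod k A M]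

lemma theta_def (θ : SimpSub k A → ℚ) (N : Submodule k M) :
    theta M θ N = ∑' D : SimpSub k A, (θ D : ℝ) * (hilbAt M N D : ℝ) := rfl

lemma hilbAt_top (D : SimpSub k A) :
    hilbAt M (⊤ : Submodule k M) D = Module.finrank k ↥(isoComp M D.1) := by
  rw [hilbAt, top_inf_eq]

lemma hilbAt_mono (D : SimpSub k A) [Module.Finite k ↥(isoComp M D.1)] {N N' : Submodule k M}
    (hNN' : N ≤ N') : hilbAt M N D ≤ hilbAt M N' D := by
  haveI : Module.Finite k ↥(N' ⊓ isoComp M D.1) :=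
    Submodule.finiteDimensional_of_le inf_le_right
  exact Submodule.finrank_mono (inf_le_inf_right _ hNN')

lemma hilbAt_le (D : SimpSub k A) [Module.Finite k ↥(isoComp M D.1)] (N : Submodule k M) :
    hilbAt M N D ≤ Module.finrank k ↥(isoComp M D.1) := by
  rw [← hilbAt_top]
  exact hilbAt_mono D le_top

lemma hilbAt_eq_zero_iff (D : SimpSub k A) [Module.Finite k ↥(isoComp M D.1)] (N : Submodule k M) :
    hilbAt M N D = 0 ↔ N ⊓ isoComp M D.1 = ⊥ := by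
  haveI : Module.Finite k ↥(N ⊓ isoComp M D.1) :=
    Submodule.finiteDimensional_of_le inf_le_right
  rw [hilbAt, Submodule.finrank_eq_zero]

lemma isoComp_le_of_hilbAt_eq (D : SimpSub k A) [Module.Finite k ↥(isoComp M D.1)]
    (N : Submodule k M) (h : hilbAt M N D = Module.finrank k ↥(isoComp M D.1)) :
    isoComp M D.1 ≤ N := by
  have h1 : N ⊓ isoComp M D.1 = isoComp M D.1 :=
    Submodule.eq_of_le_of_finrank_eq inf_le_right h
  rw [← h1]
  exact inf_le_left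

end Hilb

end Groth.Agent.Helper2.Constell
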