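import Mathlib
import Groth.Agent.Lib.Helper2.Constell.Num

/-!
θ-stability of constellations: generation by the negative part.
-/

set_option autoImplicit false

namespace Groth.Agent.Helper2.Constell

open TensorProduct HopfRep W4c3ghconstell

universe u v w x

section Main

variable {k : Type u} [Field k] {A : Type v} [CommRing A] [Bialgebra k A]
variable {R : Type w} [CommRing R] [Algebra k R] [HopfRep.Comod k A R]
variable {M : Type x} [AddCommGroup M] [Module k M] [Module R M] [IsScalarTower k R M]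
  [HopfRep.Comod k A M] [TameAct.IsHopfMod k A R M]
variable (h : SimpSub k A → ℕ) (θ : SimpSub k A → ℚ)

omit [HopfRep.Comod k A R] [TameAct.IsHopfMod k A R M] in
lemma hilbAt_le_h (hM : IsConstellation k A R M h) (N : Submodule k M) (D : SimpSub k A) :
    hilbAt M N D ≤ h D := by
  haveI := (hM.2.2 D).1
  rw [← (hM.2.2 D).2]
  exact hilbAt_le D N

omit [HopfRep.Comod k A R] [TameAct.IsHopfMod k A R M] in
lemma hilbAt_top_h (hM : IsConstellation k A R M h) (D : SimpSub k A) :
    hilbAt M (⊤ : Submodule k M) D = h D := by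
  rw [hilbAt_top, (hM.2.2 D).2]

omit [HopfRep.Comod k A R] [TameAct.IsHopfMod k A R M] in
lemma theta_top (hM : IsConstellation k A R M h)
    (hsum : HasSum (fun D => (θ D : ℝ) * (h D : ℝ)) 0) :
    theta M θ (⊤ : Submodule k M) = 0 := by
  rw [theta_def]
  simp_rw [hilbAt_top_h h hM]
  exact hsum.tsum_eq

lemma isSubcomod_genIn_top (S : Set (SimpSub k A)) :
    IsSubcomod (k := k) (A := A)
      ((genIn k A R M S (⊤ : Submodule R M)).restrictScalars k) := by
  apply isSubcomod_genIn
  rw [Submodule.restrictScalars_top]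
  exact Groth.Agent.Helper9.isSubcomod_top

omit [HopfRep.Comod k A R] [TameAct.IsHopfMod k A R M] in
lemma hilbAt_genIn_top (hM : IsConstellation k A R M h) (S : Set (SimpSub k A))
    (D : SimpSub k A) (hD : D ∈ S) :
    hilbAt M ((genIn k A R M S (⊤ : Submodule R M)).restrictScalars k) D = h D := by
  rw [hilbAt, genIn_inf_isoComp _ _ D hD, Submodule.restrictScalars_top, ← hilbAt,
    hilbAt_top_h h hM]

theorem genIn_neg_eq_top_of_stable
    (hsum : HasSum (fun D => (θ D : ℝ) * (h D : ℝ)) 0)
    (hne : ∃ D, θ D ≠ 0 ∧ h D ≠ 0)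
    (hM : IsConstellation k A R M h)
    (hst : IsThetaStable k A R M θ) :
    genIn k A R M {D | θ D < 0} (⊤ : Submodule R M) = ⊤ := by
  by_contra hG
  have hGsub := isSubcomod_genIn_top (k := k) (A := A) (R := R) (M := M) {D | θ D < 0}
  have hneg : ∀ D, θ D < 0 →
      hilbAt M ((genIn k A R M {D | θ D < 0} (⊤ : Submodule R M)).restrictScalars k) D = h D :=
    fun D hD => hilbAt_genIn_top h hM _ D hD
  have hle : theta M θ ((genIn k A R M {D | θ D < 0} (⊤ : Submodule R M)).restrictScalars k)
      ≤ 0 := by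
    rw [theta_def]
    have := tsum_le_of θ h h
      (fun D => hilbAt M ((genIn k A R M {D | θ D < 0} (⊤ : Submodule R M)).restrictScalars k) D)
      hsum.summable (fun _ => le_rfl) hneg (fun D => hilbAt_le_h h hM _ D)
    rwa [hsum.tsum_eq] at this
  have hGbot : genIn k A R M {D | θ D < 0} (⊤ : Submodule R M) ≠ ⊥ := by
    intro hb
    have h0 : ∀ D, θ D < 0 → h D = 0 := by
      intro D hD
      rw [← hneg D hD, hb, Submodule.restrictScalars_bot, hilbAt, bot_inf_eq, finrank_bot]
    obtain ⟨D₁, hθ1, hh1⟩ := hne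
    have hpos : 0 < θ D₁ := by
      rcases lt_trichotomy (θ D₁) 0 with h' | h' | h'
      · exact absurd (h0 D₁ h') hh1
      · exact absurd h' hθ1
      · exact h'
    have := tsum_pos_of θ h h hsum.summable (fun _ => le_rfl) h0 D₁ hpos hh1
    rw [hsum.tsum_eq] at this
    exact lt_irrefl _ this
  have := hst.2 _ hGsub hGbot hG
  linarith

theorem genIn_neg_eq_top_of_semistable
    (hsum : HasSum (fun D => (θ D : ℝ) * (h D : ℝ)) 0)
    (hM : IsConstellation k A R M h)
    (hθ : ∀ D, θ D ≠ 0)
    (hss : IsThetaSemistable k A R M θ) :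
    genIn k A R M {D | θ D < 0} (⊤ : Submodule R M) = ⊤ := by
  have hGsub := isSubcomod_genIn_top (k := k) (A := A) (R := R) (M := M) {D | θ D < 0}
  have hneg : ∀ D, θ D < 0 →
      hilbAt M ((genIn k A R M {D | θ D < 0} (⊤ : Submodule R M)).restrictScalars k) D = h D :=
    fun D hD => hilbAt_genIn_top h hM _ D hD
  have hge := hss.2 _ hGsub
  have hterm := term_eq_of_tsum_ge θ h h
    (fun D => hilbAt M ((genIn k A R M {D | θ D < 0} (⊤ : Submodule R M)).restrictScalars k) D)
    hsum.summable (fun _ => le_rfl) hneg (fun D => hilbAt_le_h h hM _ D)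
    (by rw [hsum.tsum_eq]; exact hge)
  have heq : ∀ D,
      hilbAt M ((genIn k A R M {D | θ D < 0} (⊤ : Submodule R M)).restrictScalars k) D = h D := by
    intro D
    have h1 := hterm D
    have hθD : (θ D : ℝ) ≠ 0 := by exact_mod_cast hθ D
    exact_mod_cast mul_left_cancel₀ hθD h1
  have htop : (⊤ : Submodule k M) ≤
      (genIn k A R M {D | θ D < 0} (⊤ : Submodule R M)).restrictScalars k := by
    rw [← hM.2.1]
    apply iSup_le
    intro D
    haveI := (hM.2.2 D).1
    apply isoComp_le_of_hilbAt_eq D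
    rw [heq D, (hM.2.2 D).2]
  rw [eq_top_iff]
  intro x _
  exact htop Submodule.mem_top

theorem semistable_of_forall_genIn_neg
    (hsum : HasSum (fun D => (θ D : ℝ) * (h D : ℝ)) 0)
    (hM : IsConstellation k A R M h)
    (h0 : theta M θ (⊤ : Submodule k M) = 0)
    (hss : ∀ N : Submodule R M, IsSubcomod (k := k) (A := A) (N.restrictScalars k) → N ≠ ⊥ →
      N ≠ ⊤ → genIn k A R M {D | θ D < 0} N = N → 0 ≤ theta M θ (N.restrictScalars k)) :
    IsThetaSemistable k A R M θ := by
  refine ⟨h0, fun N hN => ?_⟩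
  have hN'sub := isSubcomod_genIn {D | θ D < 0} N hN
  have hN'gen := genIn_genIn (k := k) (A := A) (R := R) (M := M) {D | θ D < 0} N
  have hcmp : theta M θ ((genIn k A R M {D | θ D < 0} N).restrictScalars k) ≤
      theta M θ (N.restrictScalars k) := by
    rw [theta_def, theta_def]
    refine tsum_le_of θ h (fun D => hilbAt M (N.restrictScalars k) D)
      (fun D => hilbAt M ((genIn k A R M {D | θ D < 0} N).restrictScalars k) D)
      hsum.summable (fun D => hilbAt_le_h h hM _ D) ?_ ?_
    · intro D hD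
      simp only [hilbAt]
      rw [genIn_inf_isoComp _ _ D hD]
    · intro D
      haveI := (hM.2.2 D).1
      exact hilbAt_mono D (fun x hx => genIn_le (k := k) (A := A) {D | θ D < 0} N hx)
  by_cases hb : genIn k A R M {D | θ D < 0} N = ⊥
  · rw [theta_def]
    apply tsum_nonneg_of
    intro D hD
    haveI := (hM.2.2 D).1
    rw [hilbAt_eq_zero_iff, ← genIn_inf_isoComp {D | θ D < 0} N D hD, hb,
      Submodule.restrictScalars_bot, bot_inf_eq]
  by_cases ht : genIn k A R M {D | θ D < 0} N = ⊤
  · have hNt : N = ⊤ := top_le_iff.mp (ht ▸ genIn_le _ N)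
    rw [hNt, Submodule.restrictScalars_top]
    exact h0.ge
  · exact (hss _ hN'sub hb ht hN'gen).trans hcmp

theorem stable_of_forall_genIn_neg
    (hsum : HasSum (fun D => (θ D : ℝ) * (h D : ℝ)) 0)
    (hM : IsConstellation k A R M h)
    (hθ : ∀ D, h D ≠ 0 → θ D ≠ 0)
    (h0 : theta M θ (⊤ : Submodule k M) = 0)
    (hs : ∀ N : Submodule R M, IsSubcomod (k := k) (A := A) (N.restrictScalars k) → N ≠ ⊥ →
      N ≠ ⊤ → genIn k A R M {D | θ D < 0} N = N → 0 < theta M θ (N.restrictScalars k)) :
    IsThetaStable k A R M θ := by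
  refine ⟨h0, fun N hN hNb hNt => ?_⟩
  have hN'sub := isSubcomod_genIn {D | θ D < 0} N hN
  have hN'gen := genIn_genIn (k := k) (A := A) (R := R) (M := M) {D | θ D < 0} N
  have hcmp : theta M θ ((genIn k A R M {D | θ D < 0} N).restrictScalars k) ≤
      theta M θ (N.restrictScalars k) := by
    rw [theta_def, theta_def]
    refine tsum_le_of θ h (fun D => hilbAt M (N.restrictScalars k) D)
      (fun D => hilbAt M ((genIn k A R M {D | θ D < 0} N).restrictScalars k) D)
      hsum.summable (fun D => hilbAt_le_h h hM _ D) ?_ ?_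
    · intro D hD
      simp only [hilbAt]
      rw [genIn_inf_isoComp _ _ D hD]
    · intro D
      haveI := (hM.2.2 D).1
      exact hilbAt_mono D (fun x hx => genIn_le (k := k) (A := A) {D | θ D < 0} N hx)
  by_cases hb : genIn k A R M {D | θ D < 0} N = ⊥
  · have hneg : ∀ D, θ D < 0 → hilbAt M (N.restrictScalars k) D = 0 := by
      intro D hD
      haveI := (hM.2.2 D).1
      rw [hilbAt_eq_zero_iff, ← genIn_inf_isoComp {D | θ D < 0} N D hD, hb,
        Submodule.restrictScalars_bot, bot_inf_eq]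
    have hNkb : N.restrictScalars k ≠ ⊥ := by
      intro hh
      apply hNb
      rw [eq_bot_iff]
      intro x hx
      have : x ∈ N.restrictScalars k := hx
      rw [hh] at this
      exact this
    obtain ⟨D₁, hD₁⟩ := exists_inf_isoComp_ne_bot (N.restrictScalars k) hN hNkb
    haveI := (hM.2.2 D₁).1
    have ha1 : hilbAt M (N.restrictScalars k) D₁ ≠ 0 := by
      rw [Ne, hilbAt_eq_zero_iff]
      exact hD₁
    have hh1 : h D₁ ≠ 0 := by
      have := hilbAt_le_h h hM (N.restrictScalars k) D₁
      omega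
    have hpos : 0 < θ D₁ := by
      rcases lt_trichotomy (θ D₁) 0 with h' | h' | h'
      · exact absurd (hneg D₁ h') ha1
      · exact absurd h' (hθ D₁ hh1)
      · exact h'
    rw [theta_def]
    exact tsum_pos_of θ h _ hsum.summable (fun D => hilbAt_le_h h hM _ D) hneg D₁ hpos ha1
  by_cases ht : genIn k A R M {D | θ D < 0} N = ⊤
  · exact absurd (top_le_iff.mp (ht ▸ genIn_le _ N)) hNt
  · exact lt_of_lt_of_le (hs _ hN'sub hb ht hN'gen) hcmp

theorem stable_of_genIn_unit
    (hsum : HasSum (fun D => (θ D : ℝ) * (h D : ℝ)) 0)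
    (hM : IsConstellation k A R M h)
    (D₀ : SimpSub k A) (h1 : h D₀ = 1) (hneg : ∀ D, θ D < 0 ↔ D = D₀)
    (hθ : ∀ D, h D ≠ 0 → θ D ≠ 0)
    (hgen : genIn k A R M {D₀} (⊤ : Submodule R M) = ⊤) :
    IsThetaStable k A R M θ := by
  refine ⟨theta_top h θ hM hsum, fun N hN hNb hNt => ?_⟩
  haveI := (hM.2.2 D₀).1
  -- the invariant part of `N` vanishes
  have hN0 : hilbAt M (N.restrictScalars k) D₀ = 0 := by
    by_contra hne
    have hle := hilbAt_le_h h hM (N.restrictScalars k) D₀
    have heq : hilbAt M (N.restrictScalars k) D₀ = Module.finrank k ↥(isoComp M D₀.1) := by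
      rw [(hM.2.2 D₀).2]
      omega
    have hiso := isoComp_le_of_hilbAt_eq D₀ (N.restrictScalars k) heq
    apply hNt
    rw [eq_top_iff, ← hgen]
    apply Submodule.span_le.mpr
    intro x hx
    simp only [Set.mem_iUnion] at hx
    obtain ⟨D, hD, hx⟩ := hx
    rw [Set.mem_singleton_iff] at hD
    subst hD
    exact hiso hx.2
  have hneg' : ∀ D, θ D < 0 → hilbAt M (N.restrictScalars k) D = 0 := by
    intro D hD
    rw [(hneg D).mp hD]
    exact hN0
  have hNkb : N.restrictScalars k ≠ ⊥ := by
    intro hh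
    apply hNb
    rw [eq_bot_iff]
    intro x hx
    have : x ∈ N.restrictScalars k := hx
    rw [hh] at this
    exact this
  obtain ⟨D₁, hD₁⟩ := exists_inf_isoComp_ne_bot (N.restrictScalars k) hN hNkb
  haveI := (hM.2.2 D₁).1
  have ha1 : hilbAt M (N.restrictScalars k) D₁ ≠ 0 := by
    rw [Ne, hilbAt_eq_zero_iff]
    exact hD₁
  have hh1 : h D₁ ≠ 0 := by
    have := hilbAt_le_h h hM (N.restrictScalars k) D₁
    omega
  have hpos : 0 < θ D₁ := by
    rcases lt_trichotomy (θ D₁) 0 with h' | h' | h'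
    · exact absurd (hneg' D₁ h') ha1
    · exact absurd h' (hθ D₁ hh1)
    · exact h'
  rw [theta_def]
  exact tsum_pos_of θ h _ hsum.summable (fun D => hilbAt_le_h h hM _ D) hneg' D₁ hpos ha1

end Main

end Groth.Agent.Helper2.Constell
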